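import Mathlib

/-!
# TEAM SR: a finite simple group with all elements real is strongly real (S4971)

* `SR g`   : `g` is inverted by an element with square one;
* `NRel G` : some element of `G` is not conjugate to its inverse;
* `RR G`   : if all elements of `G` are real then all are strongly real (the row predicate).
-/

set_option autoImplicit false

namespace Cfsg.Agent.H721.SR

/-- `g` is inverted by an element with square one -/
def SR {G : Type*} [Group G] (g : G) : Prop := ∃ t : G, t * t = 1 ∧ t * g * t⁻¹ = g⁻¹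

/-- some element is not real -/
def NRel (G : Type*) [Group G] : Prop := ∃ g : G, ¬ IsConj g g⁻¹

/-- the row predicate -/
def RR (G : Type*) [Group G] : Prop := (∀ g : G, IsConj g g⁻¹) → ∀ g : G, SR g

section

variable {G H K : Type*} [Group G] [Group H] [Group K]

theorem RR.of_nrel (h : NRel G) : RR G := by
  obtain ⟨g, hg⟩ := h
  intro hr
  exact absurd (hr g) hg

theorem RR.of_sr (h : ∀ g : G, SR g) : RR G := fun _ => h

/-- it is enough that real elements are strongly real -/
theorem RR.of_real (h : ∀ g : G, IsConj g g⁻¹ → SR g) : RR G := fun hr g => h g (hr g)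

theorem isConj_inv_iff {g : G} : IsConj g g⁻¹ ↔ ∃ h : G, h * g * h⁻¹ = g⁻¹ := isConj_iff

theorem SR.real {g : G} (h : SR g) : IsConj g g⁻¹ := by
  obtain ⟨t, -, ht⟩ := h
  exact isConj_iff.2 ⟨t, ht⟩

theorem SR.map {g : G} (f : G →* H) (h : SR g) : SR (f g) := by
  obtain ⟨t, h1, h2⟩ := h
  refine ⟨f t, by rw [← map_mul, h1, map_one], ?_⟩
  rw [← map_mul, ← map_inv, ← map_mul, h2, map_inv]

theorem SR.conj {g : G} (h : SR g) (x : G) : SR (x * g * x⁻¹) := by
  have := SR.map (MulAut.conj x).toMonoidHom h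
  simpa using this

theorem SR.of_isConj {g g' : G} (h : SR g) (e : IsConj g g') : SR g' := by
  obtain ⟨x, rfl⟩ := isConj_iff.1 e
  exact h.conj x

theorem sr_one : SR (1 : G) := ⟨1, by simp, by simp⟩

/-- elements with square one -/
theorem sr_of_sq {g : G} (h : g * g = 1) : SR g := ⟨1, by simp, by simpa using (inv_eq_of_mul_eq_one_left h).symm⟩

/-- a product of two elements with square one -/
theorem sr_of_mul {s t : G} (hs : s * s = 1) (ht : t * t = 1) : SR (s * t) := by
  have hs' : s⁻¹ = s := inv_eq_of_mul_eq_one_left hs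
  have ht' : t⁻¹ = t := inv_eq_of_mul_eq_one_left ht
  refine ⟨s, hs, ?_⟩
  rw [mul_inv_rev, hs', ht', ← mul_assoc, hs, one_mul]

theorem SR.out {g : G} (h : SR g) : ∃ s t : G, s * s = 1 ∧ t * t = 1 ∧ g = s * t := by
  obtain ⟨t, h1, h2⟩ := h
  have ht' : t⁻¹ = t := inv_eq_of_mul_eq_one_left h1
  rw [ht'] at h2
  refine ⟨t, t * g, h1, ?_, ?_⟩
  · calc t * g * (t * g) = (t * g * t) * g := by group
      _ = 1 := by rw [h2]; simp
  · rw [← mul_assoc, h1, one_mul]

theorem NRel.congr (e : G ≃* H) (h : NRel G) : NRel H := by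
  obtain ⟨g, hg⟩ := h
  refine ⟨e g, fun hc => hg ?_⟩
  obtain ⟨x, hx⟩ := isConj_iff.1 hc
  refine isConj_iff.2 ⟨e.symm x, e.injective ?_⟩
  simpa using hx

theorem RR.congr (e : G ≃* H) (h : RR G) : RR H := by
  intro hr g
  have h1 : ∀ g : G, IsConj g g⁻¹ := by
    intro g
    obtain ⟨x, hx⟩ := isConj_iff.1 (hr (e g))
    refine isConj_iff.2 ⟨e.symm x, e.injective ?_⟩
    simpa using hx
  have := (h h1 (e.symm g)).map e.toMonoidHom
  simpa using this

/-- non-real elements of a subgroup: if the image under a homomorphism is not real then the element is not real -/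
theorem not_real_of_map (f : H →* G) {g : H} (h : ¬ IsConj (f g) (f g)⁻¹) : ¬ IsConj g g⁻¹ := by
  intro hc
  apply h
  obtain ⟨x, hx⟩ := isConj_iff.1 hc
  exact isConj_iff.2 ⟨f x, by rw [← map_mul, ← map_inv, ← map_mul, hx, map_inv]⟩

/-- quotients -/
theorem NRel.of_surjective (f : G →* H) (hf : Function.Surjective f) (h : NRel H) : NRel G := by
  obtain ⟨g, hg⟩ := h
  obtain ⟨g, rfl⟩ := hf g
  exact ⟨g, not_real_of_map f hg⟩

/-- **The centraliser trick.** If `z ∈ ⟨x⟩` has square one, then `x` is real in `G` only if it is real in `C_G(z)`. -/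
theorem isConj_centralizer {x z : G} (hz : z * z = 1) (hx : z ∈ Subgroup.zpowers x)
    (h : IsConj x x⁻¹) : ∃ t ∈ Subgroup.centralizer {z}, t * x * t⁻¹ = x⁻¹ := by
  obtain ⟨t, ht⟩ := isConj_iff.1 h
  refine ⟨t, ?_, ht⟩
  obtain ⟨k, rfl⟩ := Subgroup.mem_zpowers_iff.1 hx
  have h1 : t * x ^ k * t⁻¹ = x ^ k := by
    have h2 : t * x ^ k * t⁻¹ = (t * x * t⁻¹) ^ k := (conj_zpow).symm
    rw [h2, ht, inv_zpow]
    exact inv_eq_of_mul_eq_one_left hz
  rw [Subgroup.mem_centralizer_singleton_iff]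
  calc t * x ^ k = t * x ^ k * t⁻¹ * t := by group
    _ = x ^ k * t := by rw [h1]

/-- the centraliser trick with a homomorphism defined on the centraliser -/
theorem nrel_of_centralizer {z : G} (hz : z * z = 1) (f : ↥(Subgroup.centralizer {z} : Subgroup G) →* K)
    (x : ↥(Subgroup.centralizer {z} : Subgroup G)) (hx : z ∈ Subgroup.zpowers (x : G))
    (hn : ¬ IsConj (f x) (f x)⁻¹) : NRel G := by
  refine ⟨x, fun hc => hn ?_⟩
  obtain ⟨t, ht, h⟩ := isConj_centralizer hz hx hc
  refine isConj_iff.2 ⟨f ⟨t, ht⟩, ?_⟩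
  rw [← map_mul, ← map_inv, ← map_mul, ← map_inv]
  congr 1
  exact Subtype.ext h

/-- **The centraliser trick for an odd element.** `y ∈ C_G(z)` of odd order with `f y` not real, `f z = 1`: then
`z y` is not real in `G`. -/
theorem nrel_of_centralizer_odd {z : G} (hz : z * z = 1)
    (f : ↥(Subgroup.centralizer {z} : Subgroup G) →* K)
    (y : ↥(Subgroup.centralizer {z} : Subgroup G)) (hy : Odd (orderOf y))
    (hfz : ∀ h : z ∈ (Subgroup.centralizer {z} : Subgroup G), f ⟨z, h⟩ = 1)
    (hn : ¬ IsConj (f y) (f y)⁻¹) : NRel G := by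
  have hzc : z ∈ (Subgroup.centralizer {z} : Subgroup G) := Subgroup.mem_centralizer_singleton_iff.2 rfl
  have hcomm : Commute z (y : G) := (Subgroup.mem_centralizer_singleton_iff.1 y.2).symm
  refine nrel_of_centralizer hz f (⟨z, hzc⟩ * y) ?_ ?_
  · obtain ⟨k, hk⟩ := hy
    refine Subgroup.mem_zpowers_iff.2 ⟨(orderOf y : ℕ), ?_⟩
    have h1 : ((⟨z, hzc⟩ * y : ↥(Subgroup.centralizer {z} : Subgroup G)) : G) = z * y := rfl
    rw [h1, zpow_natCast, hcomm.mul_pow]
    have h2 : (y : G) ^ orderOf y = 1 := by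
      rw [← Subgroup.coe_pow, pow_orderOf_eq_one, Subgroup.coe_one]
    rw [h2, mul_one, hk, pow_succ, pow_mul, pow_two, hz, one_pow, one_mul]
  · rw [map_mul, hfz hzc, one_mul]
    exact hn

end

end Cfsg.Agent.H721.SR
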