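import Cfsg.Agent.H721.SR.Base
import Cfsg.Agent.H160.QSpin
import Cfsg.Agent.H160.QDisc

/-!
# TEAM SR: definitions for one isometry

* `St B ε g`          : `B` is `ε`-symmetric and nondegenerate, `g` an isometry;
* `cyc g v`           : the `g`-invariant subspace generated by `v`;
* `CPiece`, `PPiece`  : cyclic and pair pieces;
* `T Q g δ s`         : an isometric involution of determinant `δ` and spinor sign `s` inverting `g`.
-/

set_option autoImplicit false

namespace Cfsg.Agent.H721.SR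

open Polynomial Module
open Cfsg.Agent.LieClassical.OrthCore Cfsg.Agent.H160.QSpin Cfsg.Agent.H160.QDisc

variable {F V W : Type*} [Field F] [AddCommGroup V] [Module F V] [AddCommGroup W] [Module F W]

/-- `B` is `ε`-symmetric and nondegenerate, `g` is an isometry -/
structure St (B : V →ₗ[F] V →ₗ[F] F) (ε : F) (g : V ≃ₗ[F] V) : Prop where
  eps : ε = 1 ∨ ε = -1
  symm : ∀ x y, B x y = ε * B y x
  nondeg : ∀ x, (∀ y, B x y = 0) → x = 0
  isom : ∀ x y, B (g x) (g y) = B x y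

/-- the smallest subspace containing `v` and invariant under `g` and `g⁻¹` -/
def cyc (g : V ≃ₗ[F] V) (v : V) : Submodule F V := Submodule.span F (Set.range fun i : ℤ => (g ^ i) v)

/-- `B` is nondegenerate on `U` -/
def NdOn (B : V →ₗ[F] V →ₗ[F] F) (U : Submodule F V) : Prop := ∀ x ∈ U, (∀ y ∈ U, B x y = 0) → x = 0

/-- `B` vanishes on `U` -/
def Iso0 (B : V →ₗ[F] V →ₗ[F] F) (U : Submodule F V) : Prop := ∀ x ∈ U, ∀ y ∈ U, B x y = 0

/-- the annihilator of `v` in `F[X]` with respect to `g` is `(m)` -/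
def Ann (g : V ≃ₗ[F] V) (v : V) (m : F[X]) : Prop := ∀ p : F[X], aeval (g : V →ₗ[F] V) p v = 0 ↔ m ∣ p

/-- cyclic piece -/
structure CPiece (B : V →ₗ[F] V →ₗ[F] F) (g : V ≃ₗ[F] V) (f : F[X]) (k : ℕ) (v : V) : Prop where
  irr : Irreducible f
  pos : 0 < k
  ann : Ann g v (f ^ k)
  nd : NdOn B (cyc g v)

/-- pair piece -/
structure PPiece (B : V →ₗ[F] V →ₗ[F] F) (g : V ≃ₗ[F] V) (f : F[X]) (k : ℕ) (v w : V) : Prop where
  irr : Irreducible f
  pos : 0 < k
  annv : Ann g v (f ^ k)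
  annw : Ann g⁻¹ w (f ^ k)
  isov : Iso0 B (cyc g v)
  isow : Iso0 B (cyc g w)
  nd : NdOn B (cyc g v ⊔ cyc g w)

/-- an isometric involution of determinant `δ` and spinor sign `s` inverting `g` -/
def T [Finite V] (Q : QuadraticForm F V) (g : V ≃ₗ[F] V) (δ : Fˣ) (s : ℤˣ) : Prop :=
  ∃ (h : V ≃ₗ[F] V) (hO : h ∈ O Q), h * h = 1 ∧ h * g * h⁻¹ = g⁻¹ ∧ LinearEquiv.det h = δ ∧ spin Q ⟨h, hO⟩ = s

end Cfsg.Agent.H721.SR
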