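import Cfsg.Agent.H853.SR.Bridge
import Cfsg.Agent.H382.SRJ6
import Cfsg.Agent.H595.SR.OoddA
import Cfsg.Agent.H4.SR.EPiece
import Cfsg.Agent.H164.SR.OddRows

/-!
# TEAM SR: the decomposition theorem for orthogonal groups, q odd (helper721)

`decAll` : the hypothesis `DecAll` of the orthogonal rows.
-/

set_option autoImplicit false

namespace Cfsg.Agent.H721.SRDec

open Polynomial Module QuadraticMap
open Cfsg.Agent.LieClassical.OrthCore Cfsg.Agent.H160.QSpin Cfsg.Agent.H160.QDisc Cfsg.Agent.H721.SR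
open Cfsg.Agent.H853.SR

universe u v

theorem hypA (F : Type u) [Field F] [Fintype F] [DecidableEq F] (h2 : (2 : F) ≠ 0) : HypA.{u, v} F := by
  intro V _ _ _ _ Q g f k d hQ hg hk hd h s
  rcases h with ⟨v, hp, ht, -, h1, h2'⟩ | ⟨v, w, hp, ht, hr⟩
  · exact Cfsg.Agent.H595.SR.T_cyclic h2 hQ hg ht hp hk h1 h2' hd s
  · exact Cfsg.Agent.H595.SR.T_pair h2 hQ hg ht hp hk hr hd s

theorem coe_ch (F : Type u) [Field F] [Fintype F] [DecidableEq F] (j : ℕ) :
    ((ch F ^ j : ℤˣ) : ℤ) = quadraticChar F (-1) ^ j := by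
  rw [Units.val_pow_eq_pow_val]
  congr 1
  have h1 : (-1 : F) ≠ 0 := neg_ne_zero.2 one_ne_zero
  unfold ch
  split_ifs with h
  · rw [(quadraticChar_one_iff_isSquare h1).2 h]; rfl
  · rw [quadraticChar_neg_one_iff_not_isSquare.2 h]; rfl

theorem hypE (F : Type u) [Field F] [Fintype F] [DecidableEq F] (h2 : (2 : F) ≠ 0) : HypE.{u, v} F := by
  intro V _ _ _ _ Q g f k hQ hg hk h
  rcases h with ⟨v, hp, ht, -, h1, h2'⟩ | ⟨v, w, hp, ht, -⟩
  · have hf : ¬ f ∣ X ^ 2 - 1 := by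
      intro hd
      rw [show (X ^ 2 - 1 : F[X]) = (X - 1) * (X + 1) by ring] at hd
      rcases hp.irr.prime.dvd_or_dvd hd with h | h
      · refine h1 (hp.irr.associated_of_dvd ?_ h)
        rw [← C_1]
        exact irreducible_X_sub_C 1
      · refine h2' (hp.irr.associated_of_dvd ?_ h)
        have e : (X + 1 : F[X]) = X - C (-1) := by rw [C_neg, C_1, sub_neg_eq_add]
        rw [e]
        exact irreducible_X_sub_C (-1)
    obtain ⟨j, s, e1, e2, e3, e4⟩ := Cfsg.Agent.H4.SR.epiece_cyc h2 hQ hg hp ht hf hk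
    refine ⟨j, e1, e2, ?_⟩
    have : s = ch F ^ j := Units.ext (by rw [e3, coe_ch])
    rwa [this] at e4
  · obtain ⟨j, s, e1, e2, e3, e4⟩ := Cfsg.Agent.H4.SR.epiece_pair h2 hQ hg hp ht hk
    refine ⟨j, e1, e2, ?_⟩
    have : s = ch F ^ j := Units.ext (by rw [e3, coe_ch])
    rwa [this] at e4

theorem decAll : Cfsg.Agent.H164.SRO.DecAll := by
  intro F _ _ _ ho V _ _ _ _ Q hQ hn hc g hg
  have h2 := Cfsg.Agent.H164.SRO.two_ne ho
  exact dec h2 (hypA F h2) (hypE F h2) (Cfsg.Agent.H382.SRJ.hypJT F h2) (Cfsg.Agent.H382.SRJ.hypJU F h2) V Q hQ hn hc g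
    hg.1

end Cfsg.Agent.H721.SRDec
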