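import Cfsg.Prelude.Def_Classification2
import Cfsg.Agent.H721.SR.Base
import Cfsg.Agent.H116.SR.E6
import Cfsg.Agent.H164.SR.OddRows
import Cfsg.Agent.H220.SR.Conway
import Cfsg.Agent.H291.SR.Mathieu
import Cfsg.Agent.H291.SR.Suz
import Cfsg.Agent.H306.SR.Hs
import Cfsg.Agent.H32.SR.J4
import Cfsg.Agent.H327.SR.Psl
import Cfsg.Agent.H473.SR.Row
import Cfsg.Agent.H559.SR.Fi
import Cfsg.Agent.H575.SR.PspRow
import Cfsg.Agent.H581.SR.JOne
import Cfsg.Agent.H581.SR.JTwo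
import Cfsg.Agent.H686.SR.SzRee
import Cfsg.Agent.H834.SR.Psu
import Cfsg.Agent.H89.SR.Alt
import Cfsg.Agent.H973.SR.LyTh
import Cfsg.Agent.H991.SR.TD4Odd
import Cfsg.Agent.H105.Rl.Row
import Cfsg.Agent.H29.RuR
import Cfsg.Agent.H560.SRHN
import Cfsg.Agent.H560.SRON
import Cfsg.Agent.H168.SRHex.Rows
import Cfsg.Agent.H84.SR.EvenFinal
import Cfsg.Agent.H721.SR.DecF
import Cfsg.Agent.H291.SR.He
import Cfsg.Agent.H243.SRB
import Cfsg.Agent.H243.SRM
import Cfsg.Agent.H368.SR.TwF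
import Cfsg.Agent.H689.SR.F4
import Cfsg.Agent.H315.SR.RowE7
import Cfsg.Agent.H374.SR.E8
import Cfsg.Agent.H864.SRN.Rows

/-!
# TEAM SR: the table (helper721)
-/

set_option autoImplicit false

namespace Cfsg.Agent.H721.SR

open Cfsg

universe u

theorem two_eq_zero {F : Type*} [Field F] [Fintype F] (h : Even (Fintype.card F)) : (2 : F) = 0 := by
  obtain ⟨p, hp⟩ := CharP.exists F
  obtain ⟨n, hpr, hn⟩ := FiniteField.card F p
  have h2 : 2 ∣ p ^ (n : ℕ) := hn ▸ even_iff_two_dvd.1 h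
  have h3 : p = 2 := ((Nat.prime_dvd_prime_iff_eq Nat.prime_two hpr).1 (Nat.prime_two.dvd_of_dvd_pow h2)).symm
  subst h3
  exact_mod_cast CharP.cast_eq_zero F 2

theorem charP_two {F : Type*} [Field F] [Fintype F] (h : Even (Fintype.card F)) : CharP F 2 := by
  obtain ⟨p, hp⟩ := CharP.exists F
  obtain ⟨n, hpr, hn⟩ := FiniteField.card F p
  have h2 : 2 ∣ p ^ (n : ℕ) := hn ▸ even_iff_two_dvd.1 h
  have h3 : p = 2 := ((Nat.prime_dvd_prime_iff_eq Nat.prime_two hpr).1 (Nat.prime_two.dvd_of_dvd_pow h2)).symm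
  subst h3
  exact hp

theorem rr_3d4 {S : Type u} [Group S] (h : Lie.Iso3D4 S) : RR S := by
  obtain ⟨K, _, _, q, hq, hK, ⟨e⟩⟩ := h
  rcases Nat.even_or_odd q with h2 | h2
  · exact (H168.SRHex.Rows.rr_d4 hq hK (two_eq_zero (by rw [hK]; exact (Nat.even_pow' (by norm_num)).2 h2))).congr e.symm
  · exact H991.SRD.rr_3d4_odd hK h2 e

theorem rr_spor {S : Type u} [Group S] (h : IsSporadicGroup S) : RR S := by
  rcases h with h | h | h | h | h | h | h | h | h | h | h | h | h | h | h | h | h | h | h | h | h | h | h | h | h | h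
  · exact .of_nrel (H291.SR.Mathieu.nrel_m11 h)
  · exact .of_nrel (H291.SR.Mathieu.nrel_m12 h)
  · exact .of_nrel (H291.SR.Mathieu.nrel_m22 h)
  · exact .of_nrel (H291.SR.Mathieu.nrel_m23 h)
  · exact .of_nrel (H291.SR.Mathieu.nrel_m24 h)
  · exact H581.SR.rr_j1 h
  · exact H581.SR.rr_j2 h
  · exact .of_nrel (H306.SR.nrel_j3 h)
  · exact .of_nrel (H32.SR.nrel_j4 h)
  · exact .of_nrel (H220.SR.Conway.nrel_co1 h)
  · exact .of_nrel (H220.SR.Conway.nrel_co2 h)
  · exact .of_nrel (H220.SR.Conway.nrel_co3 h)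
  · exact .of_nrel (H306.SR.nrel_mcl h)
  · exact .of_nrel (H306.SR.nrel_hs h)
  · exact .of_nrel (H291.SR.Suz.nrel_suz h)
  · exact .of_nrel (H291.SR.He.nrel_he h)
  · exact .of_nrel (H29.RuR.nrel_ru h)
  · exact .of_nrel (H560.SRON.nrel_on h)
  · exact .of_nrel (H973.SR.nrel_ly h)
  · exact .of_nrel (H559.SR.nrel_fi22 h)
  · exact .of_nrel (H559.SR.nrel_fi23 h)
  · exact .of_nrel (H559.SR.nrel_fi24 h)
  · exact .of_nrel (H560.SRHN.nrel_hn h)
  · exact .of_nrel (H973.SR.nrel_th h)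
  · exact H243.SRB.rr_b h
  · exact H243.SRM.rr_m h

theorem rr_lie {S : Type u} [Group S] (h : IsExceptionalLieType S) : RR S := by
  rcases h with h | h | h | h | h | h | h | h | h | h | h
  · exact H473.SR.rr_g2 h
  · exact H689.SR.rr_f4 h
  · exact H116.SR.rr_e6 h
  · exact H315.SR.rr_e7 h
  · exact H374.SR.rr_e8 h
  · exact H116.SR.rr_2e6 h
  · exact rr_3d4 h
  · exact H686.SR.SzRee.rr_sz h
  · exact H686.SR.SzRee.rr_ree h
  · exact H368.SR.TwF.rr_2F4 h
  · exact H368.SR.TwF.rr_tits h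

/-- **The table.** -/
theorem rr_of_known {S : Type u} [Group S] [Finite S] (hna : ¬ IsMulCommutative S)
    (h : IsKnownSimple' S) : RR S := by
  rcases h with h | h | h | h | h | h | h | h | h | h
  · exfalso
    have : Fact (Nat.card S).Prime := ⟨h⟩
    have := isCyclic_of_prime_card (α := S) rfl
    exact hna ⟨⟨fun a b => IsCyclic.commGroup.mul_comm a b⟩⟩
  · exact H89.SRAlt.rr_alt h
  · exact H327.SR.rr_psl h
  · exact H575.SR.rr_psp h
  · exact H834.SR.rr_psu h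
  · exact H164.SRO.rr_oodd h H721.SRDec.decAll (fun F _ _ m hm hm4 hF =>
      H864.SRN.nrel_odd (by rw [Nat.card_eq_fintype_card]; exact hF) hm hm4)
  · exact H164.SRO.rr_oplus h H721.SRDec.decAll (fun F _ _ m hm ho => H105.Rl.nrel_plus hm ho)
      (fun F _ _ n hn he x => by
        have := charP_two he
        exact H84.SREven.sr_plus hn x) (fun F _ _ n hn hF =>
      H864.SRN.nrel_plus (by rw [Nat.card_eq_fintype_card]; exact hF) hn)
  · exact H164.SRO.rr_ominus h H721.SRDec.decAll (fun F _ _ m a b hm ho hab => H105.Rl.nrel_minus hm ho hab)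
      (fun F _ _ n a b hn he hab x => by
        have := charP_two he
        exact H84.SREven.sr_minus hn hab x)
  · exact rr_lie h
  · exact rr_spor h

end Cfsg.Agent.H721.SR
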