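import Cfsg.Agent.H721.SR.Base

/-!
# Involution principle

* `exists_two_inverter` : a real element is inverted by a 2-element;
* `exists_fixed_involution` : a 2-element of `Aut C`, `|C|` even, fixes an involution of `C`;
* `exists_involution` : if `x` is real and `|C(x)|` is even, then some involution `z` commutes with `x` and with an
  element inverting `x`.
-/

set_option autoImplicit false

namespace Cfsg.Agent.H721.SR

variable {G : Type*} [Group G]

/-- odd powers of an inverting element invert -/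
theorem conj_pow_odd {t x : G} (h : t * x * t⁻¹ = x⁻¹) {j : ℕ} (hj : Odd j) : t ^ j * x * (t ^ j)⁻¹ = x⁻¹ := by
  obtain ⟨i, rfl⟩ := hj
  induction i with
  | zero => simpa using h
  | succ i ih =>
    have e : t ^ (2 * (i + 1) + 1) = t * (t * t ^ (2 * i + 1)) := by
      rw [← pow_succ', ← pow_succ']
      congr 1
    rw [e]
    calc t * (t * t ^ (2 * i + 1)) * x * (t * (t * t ^ (2 * i + 1)))⁻¹
        = t * (t * (t ^ (2 * i + 1) * x * (t ^ (2 * i + 1))⁻¹) * t⁻¹) * t⁻¹ := by group
      _ = t * (t * x * t⁻¹)⁻¹ * t⁻¹ := by rw [ih]; group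
      _ = t * x * t⁻¹ := by rw [h, inv_inv, h]
      _ = x⁻¹ := h

/-- a real element is inverted by an element of 2-power order -/
theorem exists_two_inverter [Finite G] {x : G} (h : IsConj x x⁻¹) :
    ∃ (t : G) (k : ℕ), t ^ 2 ^ k = 1 ∧ t * x * t⁻¹ = x⁻¹ := by
  obtain ⟨t, ht⟩ := isConj_iff.1 h
  obtain ⟨k, m, hm, e⟩ := Nat.exists_eq_two_pow_mul_odd (orderOf_pos t).ne'
  refine ⟨t ^ m, k, ?_, conj_pow_odd ht hm⟩
  rw [← pow_mul, mul_comm, ← e, pow_orderOf_eq_one]

/-- a permutation of 2-power order of a finite set of even size with a fixed point has another one -/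
theorem exists_fixed_ne {S : Type*} [Finite S] (hS : Even (Nat.card S)) (f : Equiv.Perm S) {k : ℕ}
    (hf : f ^ 2 ^ k = 1) {a : S} (ha : f a = a) : ∃ b, b ≠ a ∧ f b = b := by
  classical
  haveI := Fintype.ofFinite S
  haveI : Fact (Nat.Prime 2) := ⟨Nat.prime_two⟩
  let e : Function.End S := fun x => f x
  have hen : ∀ n : ℕ, ∀ x, (e ^ n : Function.End S) x = (f ^ n) x := by
    intro n
    induction n with
    | zero => intro x; rfl
    | succ n ih =>
      intro x
      rw [pow_succ, pow_succ]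
      exact ih (f x)
  have h1 := Equiv.Perm.card_fixedPoints_modEq (p := 2) (n := k) (f := e) (by
    funext x
    rw [hen, hf]
    rfl)
  have h2 : Fintype.card (Function.fixedPoints f) % 2 = 0 := by
    have h3 : Fintype.card S % 2 = 0 := by
      rw [← Nat.card_eq_fintype_card]
      exact Nat.even_iff.1 hS
    have h4 : Fintype.card S % 2 = Fintype.card (Function.fixedPoints f) % 2 := h1
    omega
  have h5 : 0 < Fintype.card (Function.fixedPoints f) := Fintype.card_pos_iff.2 ⟨⟨a, ha⟩⟩
  have h6 : 1 < Fintype.card (Function.fixedPoints f) := by omega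
  obtain ⟨⟨b, hb⟩, hne⟩ := Fintype.exists_ne_of_one_lt_card h6 ⟨a, ha⟩
  exact ⟨b, fun h => hne (Subtype.ext h), hb⟩

/-- the number of solutions of `x² = 1` in a group of even order is even -/
theorem even_card_sq {C : Type*} [Group C] [Finite C] (hC : Even (Nat.card C)) :
    Even (Nat.card {x : C // x * x = 1}) := by
  classical
  haveI := Fintype.ofFinite C
  haveI : Fact (Nat.Prime 2) := ⟨Nat.prime_two⟩
  have h1 := Equiv.Perm.card_fixedPoints_modEq (p := 2) (n := 1) (f := ((Equiv.inv C : C → C) : Function.End C)) (by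
    funext x
    show (x⁻¹)⁻¹ = x
    exact inv_inv x)
  have h2 : Function.fixedPoints (Equiv.inv C) = {x : C | x * x = 1} := by
    ext x
    simp only [Function.mem_fixedPoints, Function.IsFixedPt, Equiv.inv_apply, Set.mem_setOf_eq]
    constructor
    · intro h
      calc x * x = x⁻¹ * x := by rw [h]
        _ = 1 := inv_mul_cancel x
    · intro h
      exact inv_eq_of_mul_eq_one_left h
  have h3 : Fintype.card C % 2 = Fintype.card (Function.fixedPoints (Equiv.inv C)) % 2 := h1
  rw [← Nat.card_eq_fintype_card, ← Nat.card_eq_fintype_card, h2] at h3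
  rw [Nat.even_iff] at hC ⊢
  rw [← hC, h3]
  rfl

/-- a 2-element acting on a finite group of even order fixes an involution -/
theorem exists_fixed_involution {C : Type*} [Group C] [Finite C] (hC : Even (Nat.card C)) (φ : MulAut C) {k : ℕ}
    (hφ : φ ^ 2 ^ k = 1) : ∃ z : C, z ≠ 1 ∧ z * z = 1 ∧ φ z = z := by
  let f : Equiv.Perm {x : C // x * x = 1} :=
    { toFun := fun x => ⟨φ x, by rw [← map_mul, x.2, map_one]⟩
      invFun := fun x => ⟨φ.symm x, by rw [← map_mul, x.2, map_one]⟩
      left_inv := fun x => Subtype.ext (by simp)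
      right_inv := fun x => Subtype.ext (by simp) }
  have hfp : ∀ (n : ℕ) (x : {x : C // x * x = 1}), ((f ^ n) x : C) = (φ ^ n) x := by
    intro n
    induction n with
    | zero => intro x; rfl
    | succ n ih =>
      intro x
      rw [pow_succ, pow_succ, Equiv.Perm.mul_apply, MulAut.mul_apply, ih]
      rfl
  obtain ⟨b, hb, hfb⟩ := exists_fixed_ne (even_card_sq hC) f (k := k) (by
    apply Equiv.ext
    intro x
    apply Subtype.ext
    rw [hfp, hφ]
    rfl) (a := ⟨1, by simp⟩) (Subtype.ext (map_one φ))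
  refine ⟨b, fun h => hb (Subtype.ext h), b.2, congrArg Subtype.val hfb⟩

/-- **Involution principle.** A real element with centraliser of even order: some involution commutes with it and with an
element inverting it. -/
theorem exists_involution [Finite G] {x : G}
    (hc : Even (Nat.card ↥(Subgroup.centralizer {x} : Subgroup G))) (h : IsConj x x⁻¹) :
    ∃ z t : G, z ≠ 1 ∧ z * z = 1 ∧ z * x = x * z ∧ t * z = z * t ∧ t * x * t⁻¹ = x⁻¹ := by
  obtain ⟨t, k, htk, htx⟩ := exists_two_inverter h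
  have htx' : t * x⁻¹ * t⁻¹ = x := by
    have := congrArg (fun y => y⁻¹) htx
    simpa [mul_assoc] using this
  have key : ∀ (s : G), (s * x * s⁻¹ = x⁻¹ ∧ s * x⁻¹ * s⁻¹ = x) → ∀ c ∈ (Subgroup.centralizer {x} : Subgroup G),
      s * c * s⁻¹ ∈ (Subgroup.centralizer {x} : Subgroup G) := by
    intro s hs c hcc
    rw [Subgroup.mem_centralizer_singleton_iff] at hcc ⊢
    have h4 : c * x⁻¹ = x⁻¹ * c := (Commute.inv_right (show Commute c x from hcc)).eq
    calc s * c * s⁻¹ * x = s * c * s⁻¹ * (s * x⁻¹ * s⁻¹) := by rw [hs.2]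
      _ = s * (c * x⁻¹) * s⁻¹ := by group
      _ = s * (x⁻¹ * c) * s⁻¹ := by rw [h4]
      _ = (s * x⁻¹ * s⁻¹) * (s * c * s⁻¹) := by group
      _ = x * (s * c * s⁻¹) := by rw [hs.2]
  have hinv : t⁻¹ * x * t⁻¹⁻¹ = x⁻¹ ∧ t⁻¹ * x⁻¹ * t⁻¹⁻¹ = x := by
    constructor
    · calc t⁻¹ * x * t⁻¹⁻¹ = t⁻¹ * (t * x⁻¹ * t⁻¹) * t⁻¹⁻¹ := by rw [htx']
        _ = x⁻¹ := by group
    · calc t⁻¹ * x⁻¹ * t⁻¹⁻¹ = t⁻¹ * (t * x * t⁻¹) * t⁻¹⁻¹ := by rw [htx]
        _ = x := by group
  let φ : MulAut ↥(Subgroup.centralizer {x} : Subgroup G) :=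
    { toFun := fun c => ⟨t * c * t⁻¹, key t ⟨htx, htx'⟩ c c.2⟩
      invFun := fun c => ⟨t⁻¹ * c * t⁻¹⁻¹, key t⁻¹ hinv c c.2⟩
      left_inv := fun c => Subtype.ext (by simp [mul_assoc])
      right_inv := fun c => Subtype.ext (by simp [mul_assoc])
      map_mul' := fun a b => Subtype.ext (by simp [mul_assoc]) }
  have hφn : ∀ (n : ℕ) (c : ↥(Subgroup.centralizer {x} : Subgroup G)), ((φ ^ n) c : G) = t ^ n * c * (t ^ n)⁻¹ := by
    intro n
    induction n with
    | zero => intro c; simp
    | succ n ih =>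
      intro c
      rw [pow_succ, MulAut.mul_apply, ih]
      show t ^ n * (t * c * t⁻¹) * (t ^ n)⁻¹ = _
      rw [pow_succ]
      group
  obtain ⟨z, hz1, hz2, hz3⟩ := exists_fixed_involution hc φ (k := k) (by
    apply MulEquiv.ext
    intro c
    apply Subtype.ext
    rw [hφn, htk]
    simp)
  refine ⟨z, t, fun h => hz1 (Subtype.ext h), ?_, ?_, ?_, htx⟩
  · exact congrArg Subtype.val hz2
  · exact Subgroup.mem_centralizer_singleton_iff.1 z.2
  · have h1 : t * z * t⁻¹ = (z : G) := congrArg Subtype.val hz3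
    calc t * (z : G) = t * z * t⁻¹ * t := by group
      _ = z * t := by rw [h1]

end Cfsg.Agent.H721.SR
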